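import Mathlib
import Groth.Agent.Hensel.IntegralStrict

/-!
# Isomorphisms of elliptic curves over henselian local domains are unramified

If two elliptic Weierstrass curves over a complete local domain with algebraically closed residue
field have the same `j`-invariant, they differ by a change of variables over that domain: a change
of variables over an algebraic closure has integral coefficients, and its deviation from a change of
variables over the base vanishes because elliptic curves have no infinitesimal automorphisms.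
-/

noncomputable section

open WeierstrassCurve IsLocalRing

namespace Groth.Agent.EllLiftX

universe u

section Rigid

variable {R : Type u} [CommRing R] [IsLocalRing R]

/-- An elliptic curve over a local ring has no infinitesimal change of variables fixing it. -/
theorem infinitesimal_eq_zero {Q : Type u} [CommRing Q] [Algebra R Q] (W : WeierstrassCurve R)
    [W.IsElliptic] (du dr ds dt : Q)
    (hu : ∀ a ∈ maximalIdeal R, algebraMap R Q a * du = 0)
    (hr : ∀ a ∈ maximalIdeal R, algebraMap R Q a * dr = 0)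
    (hs : ∀ a ∈ maximalIdeal R, algebraMap R Q a * ds = 0)
    (ht : ∀ a ∈ maximalIdeal R, algebraMap R Q a * dt = 0)
    (e₁ : algebraMap R Q W.a₁ * du - 2 * ds = 0)
    (e₂ : 2 * algebraMap R Q W.a₂ * du - 3 * dr + algebraMap R Q W.a₁ * ds = 0)
    (e₃ : 3 * algebraMap R Q W.a₃ * du - algebraMap R Q W.a₁ * dr - 2 * dt = 0)
    (e₄ : 4 * algebraMap R Q W.a₄ * du - 2 * algebraMap R Q W.a₂ * dr
      + algebraMap R Q W.a₃ * ds + algebraMap R Q W.a₁ * dt = 0)
    (e₆ : 6 * algebraMap R Q W.a₆ * du - algebraMap R Q W.a₄ * dr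
      + algebraMap R Q W.a₃ * dt = 0) :
    du = 0 ∧ dr = 0 ∧ ds = 0 ∧ dt = 0 := by
  set φ := algebraMap R Q
  have hΔ : residue R W.Δ ≠ 0 := (W.isUnit_Δ.map (residue R)).ne_zero
  have cancel : ∀ {a : R} {x : Q}, IsUnit a → φ a * x = 0 → x = 0 := fun ha h =>
    (ha.map φ).mul_right_eq_zero.mp h
  by_cases h2 : (2 : R) ∈ maximalIdeal R
  · have h2u := hu 2 h2
    have h2r := hr 2 h2
    have h2s := hs 2 h2
    have h2t := ht 2 h2
    simp only [map_ofNat] at h2u h2r h2s h2t
    have f₂ : dr = φ W.a₁ * ds := by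
      linear_combination -e₂ + φ W.a₂ * h2u - h2r
    have f₁ : φ W.a₁ * du = 0 := by linear_combination e₁ + h2s
    by_cases ha₁ : W.a₁ ∈ maximalIdeal R
    · have hr0 : dr = 0 := by rw [f₂, hs _ ha₁]
      have ha₃ : IsUnit W.a₃ := by
        by_contra hn
        refine hΔ ?_
        have z₁ : residue R W.a₁ = 0 := (residue_eq_zero_iff _).mpr ha₁
        have z₃ : residue R W.a₃ = 0 := (residue_eq_zero_iff _).mpr hn
        have z₂ : residue R 2 = 0 := (residue_eq_zero_iff _).mpr h2
        simp only [map_ofNat] at z₂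
        simp only [WeierstrassCurve.Δ, WeierstrassCurve.b₂, WeierstrassCurve.b₄,
          WeierstrassCurve.b₆, WeierstrassCurve.b₈, map_add, map_sub, map_mul, map_pow, map_neg,
          map_ofNat, z₁, z₃]
        linear_combination
          (-(8 * residue R W.a₂ ^ 2 * (4 * residue R W.a₂ * residue R W.a₆ -
            residue R W.a₄ ^ 2)) - 32 * residue R W.a₄ ^ 3 - 216 * residue R W.a₆ ^ 2 +
            144 * residue R W.a₂ * residue R W.a₄ * residue R W.a₆) * z₂
      have hu0 : du = 0 := cancel ha₃ (by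
        linear_combination e₃ + φ W.a₁ * hr0 + h2t - φ W.a₃ * h2u)
      have hs0 : ds = 0 := cancel ha₃ (by
        linear_combination e₄ - 4 * φ W.a₄ * hu0 + 2 * φ W.a₂ * hr0 - ht _ ha₁)
      have ht0 : dt = 0 := cancel ha₃ (by
        linear_combination e₆ - 6 * φ W.a₆ * hu0 + φ W.a₄ * hr0)
      exact ⟨hu0, hr0, hs0, ht0⟩
    · have ha : IsUnit W.a₁ := not_not.mp ha₁
      have hu0 : du = 0 := cancel ha f₁
      have hr0 : dr = 0 := cancel ha (by
        linear_combination -e₃ + 3 * φ W.a₃ * hu0 - h2t)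
      have hs0 : ds = 0 := cancel ha (by rw [← f₂, hr0])
      have ht0 : dt = 0 := cancel ha (by
        linear_combination e₄ - 4 * φ W.a₄ * hu0 + 2 * φ W.a₂ * hr0 - φ W.a₃ * hs0)
      exact ⟨hu0, hr0, hs0, ht0⟩
  · have h2' : IsUnit (2 : R) := not_not.mp h2
    have h2Q : IsUnit (2 : Q) := by simpa only [map_ofNat] using h2'.map φ
    have c2 : ∀ {x : Q}, 2 * x = 0 → x = 0 := fun h => h2Q.mul_right_eq_zero.mp h
    by_cases h3 : (3 : R) ∈ maximalIdeal R
    · have h3u := hu 3 h3
      have h3r := hr 3 h3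
      have h3s := hs 3 h3
      simp only [map_ofNat] at h3u h3r h3s
      have f₁ : ds = - φ W.a₁ * du := by linear_combination e₁ + h3s
      have f₂ : φ (W.a₁ ^ 2 + W.a₂) * du = 0 := by
        simp only [map_add, map_pow]
        linear_combination -e₂ + φ W.a₁ * f₁ - h3r + φ W.a₂ * h3u
      have h3t := ht 3 h3
      simp only [map_ofNat] at h3t
      have f₃ : dt = φ W.a₁ * dr := by linear_combination e₃ + h3t - φ W.a₃ * h3u
      have z₃ : residue R 3 = 0 := (residue_eq_zero_iff _).mpr h3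
      simp only [map_ofNat] at z₃
      by_cases hb : W.a₁ ^ 2 + W.a₂ ∈ maximalIdeal R
      · have hc : IsUnit (W.a₄ - W.a₁ * W.a₃) := by
          by_contra hn
          refine hΔ ?_
          have za : residue R W.a₂ = - residue R W.a₁ ^ 2 := by
            have := (residue_eq_zero_iff _).mpr hb
            simp only [map_add, map_pow] at this
            linear_combination this
          have zb : residue R W.a₄ = residue R W.a₁ * residue R W.a₃ := by
            have := (residue_eq_zero_iff _).mpr hn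
            simp only [map_sub, map_mul] at this
            linear_combination this
          simp only [WeierstrassCurve.Δ, WeierstrassCurve.b₂, WeierstrassCurve.b₄,
            WeierstrassCurve.b₆, WeierstrassCurve.b₈, map_add, map_sub, map_mul, map_pow, map_neg,
            map_ofNat, za, zb]
          set x := residue R W.a₁
          set y := residue R W.a₃
          set z := residue R W.a₆
          linear_combination (9 * x ^ 6 * (z + y ^ 2)
            - 72 * x ^ 3 * y ^ 3 - 9 * (y ^ 2 + 4 * z) ^ 2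
            - 27 * x ^ 3 * y * (y ^ 2 + 4 * z)) * z₃
        have hu0 : du = 0 := cancel hc (by
          simp only [map_sub, map_mul]
          have h' : φ (W.a₁ ^ 2 + W.a₂) * dr = 0 := hr _ hb
          simp only [map_add, map_pow] at h'
          linear_combination e₄ - h' - φ W.a₃ * f₁ - φ W.a₁ * f₃ + φ W.a₂ * h3r
            - φ W.a₄ * h3u)
        have hs0 : ds = 0 := by rw [f₁, hu0, mul_zero]
        have hr0 : dr = 0 := cancel hc (by
          simp only [map_sub, map_mul]
          linear_combination -e₆ + 6 * φ W.a₆ * hu0 + φ W.a₃ * f₃)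
        exact ⟨hu0, hr0, hs0, by rw [f₃, hr0, mul_zero]⟩
      · have hb' : IsUnit (W.a₁ ^ 2 + W.a₂) := not_not.mp hb
        have hu0 : du = 0 := cancel hb' f₂
        have hs0 : ds = 0 := by rw [f₁, hu0, mul_zero]
        have hr0 : dr = 0 := cancel hb' (by
          simp only [map_add, map_pow]
          linear_combination e₄ - φ W.a₁ * f₃ - 4 * φ W.a₄ * hu0 - φ W.a₃ * hs0
            + φ W.a₂ * h3r)
        exact ⟨hu0, hr0, hs0, by rw [f₃, hr0, mul_zero]⟩
    · have h3' : IsUnit (3 : R) := not_not.mp h3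
      have h3Q : IsUnit (3 : Q) := by simpa only [map_ofNat] using h3'.map φ
      have c3 : ∀ {x : Q}, 3 * x = 0 → x = 0 := fun h => h3Q.mul_right_eq_zero.mp h
      have hΔu : φ W.Δ * du = 0 := by
        set a₁ := φ W.a₁
        set a₂ := φ W.a₂
        set a₃ := φ W.a₃
        set a₄ := φ W.a₄
        set a₆ := φ W.a₆
        have g₂ : 2 * φ W.b₂ * du - 12 * dr = 0 := by
          simp only [WeierstrassCurve.b₂, map_add, map_mul, map_pow, map_ofNat]
          linear_combination 2 * a₁ * e₁ + 4 * e₂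
        have g₄ : 4 * φ W.b₄ * du - φ W.b₂ * dr = 0 := by
          simp only [WeierstrassCurve.b₂, WeierstrassCurve.b₄, map_add, map_mul, map_pow,
            map_ofNat]
          linear_combination a₃ * e₁ + a₁ * e₃ + 2 * e₄
        have g₆ : 6 * φ W.b₆ * du - 2 * φ W.b₄ * dr = 0 := by
          simp only [WeierstrassCurve.b₄, WeierstrassCurve.b₆, map_add, map_mul, map_pow,
            map_ofNat]
          linear_combination 2 * a₃ * e₃ + 4 * e₆
        have k₄ : φ W.c₄ * du = 0 := by
          refine c2 (c2 ?_)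
          simp only [WeierstrassCurve.c₄, map_sub, map_mul, map_pow, map_ofNat]
          linear_combination 2 * φ W.b₂ * g₂ - 24 * g₄
        have k₆ : φ W.c₆ * du = 0 := by
          refine c3 (c2 ?_)
          simp only [WeierstrassCurve.c₆, map_add, map_sub, map_mul, map_pow, map_ofNat, map_neg]
          linear_combination (-3 * φ W.b₂ ^ 2 + 36 * φ W.b₄) * g₂ + 36 * φ W.b₂ * g₄ - 216 * g₆
        have hrel := congrArg φ W.c_relation
        simp only [map_sub, map_mul, map_pow, map_ofNat] at hrel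
        have h1728 : IsUnit (1728 : Q) := by
          rw [show (1728 : Q) = 2 ^ 6 * 3 ^ 3 by norm_num]
          exact (h2Q.pow 6).mul (h3Q.pow 3)
        refine h1728.mul_right_eq_zero.mp ?_
        linear_combination du * hrel + φ W.c₄ ^ 2 * k₄ - φ W.c₆ * k₆
      have hu0 : du = 0 := cancel W.isUnit_Δ hΔu
      have hs0 : ds = 0 := c2 (by linear_combination -e₁ + φ W.a₁ * hu0)
      have hr0 : dr = 0 := c3 (by
        linear_combination -e₂ + 2 * φ W.a₂ * hu0 + φ W.a₁ * hs0)
      have ht0 : dt = 0 := c2 (by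
        linear_combination -e₃ + 3 * φ W.a₃ * hu0 - φ W.a₁ * hr0)
      exact ⟨hu0, hr0, hs0, ht0⟩

end Rigid

section Descend

variable {R : Type u} [CommRing R] [HenselianLocalRing R] [IsAlgClosed (ResidueField R)]
  {S : Type u} [CommRing S] [IsDomain S] [Algebra R S] [Module.Finite R S]

theorem exists_sub_mem (x : S) [IsLocalRing S] [IsLocalHom (algebraMap R S)] :
    ∃ a : R, x - algebraMap R S a ∈ maximalIdeal S := by
  have : Algebra.IsIntegral (ResidueField R) (ResidueField S) := Algebra.IsIntegral.of_finite _ _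
  obtain ⟨c, hc⟩ := (IsAlgClosed.algebraMap_bijective_of_isIntegral
    (k := ResidueField R) (K := ResidueField S)).2 (residue S x)
  obtain ⟨a, rfl⟩ := residue_surjective c
  refine ⟨a, (residue_eq_zero_iff _).mp ?_⟩
  rw [map_sub, ← hc, sub_eq_zero]
  rfl

/-- A change of variables over a finite domain between two elliptic curves over a henselian local
ring with algebraically closed residue field comes from a change of variables over that ring. -/
theorem exists_variableChange_of_map (W₁ W₂ : WeierstrassCurve R) [W₁.IsElliptic]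
    (hinj : Function.Injective (algebraMap R S)) (C : VariableChange S)
    (hgen : Algebra.adjoin R ({(C.u : S), (↑C.u⁻¹ : S), C.r, C.s, C.t} : Set S) = ⊤)
    (hC : C • W₁.map (algebraMap R S) = W₂.map (algebraMap R S)) :
    ∃ C₀ : VariableChange R, C₀ • W₁ = W₂ := by
  set φ := algebraMap R S with hφ
  have : Algebra.IsIntegral R S := Algebra.IsIntegral.of_finite _ _
  have : IsLocalRing S := Hensel.isLocalRing_of_isIntegral_domain R S
  have : IsLocalHom φ := Hensel.isLocalHom_of_isIntegral_local R S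
  have hM : ∀ {a : R}, a ∈ maximalIdeal R → φ a ∈ maximalIdeal S := fun ha =>
    map_nonunit φ _ ha
  obtain ⟨u₀, hu₀⟩ := exists_sub_mem (R := R) (C.u : S)
  obtain ⟨r₀, hr₀⟩ := exists_sub_mem (R := R) C.r
  obtain ⟨s₀, hs₀⟩ := exists_sub_mem (R := R) C.s
  obtain ⟨t₀, ht₀⟩ := exists_sub_mem (R := R) C.t
  have hu : IsUnit u₀ := by
    by_contra hn
    have : (C.u : S) ∈ maximalIdeal S := by
      have := add_mem hu₀ (hM hn)
      rwa [sub_add_cancel] at this
    exact this C.u.isUnit
  let C₁ : VariableChange R := ⟨hu.unit, r₀, s₀, t₀⟩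
  let D : VariableChange S := C * (C₁.map φ)⁻¹
  let V := C₁ • W₁
  have hD : D • V.map φ = W₂.map φ := by
    rw [← hC, ← WeierstrassCurve.map_variableChange, ← mul_smul, inv_mul_cancel_right]
  -- the deviation of `D` from the identity
  set π := residue S
  have hπ : C.map π = (C₁.map φ).map π := by
    ext
    · exact sub_eq_zero.mp (by change π _ - π _ = 0; rw [← map_sub]; exact (residue_eq_zero_iff _).mpr hu₀)
    · exact sub_eq_zero.mp (by change π _ - π _ = 0; rw [← map_sub]; exact (residue_eq_zero_iff _).mpr hr₀)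
    · exact sub_eq_zero.mp (by change π _ - π _ = 0; rw [← map_sub]; exact (residue_eq_zero_iff _).mpr hs₀)
    · exact sub_eq_zero.mp (by change π _ - π _ = 0; rw [← map_sub]; exact (residue_eq_zero_iff _).mpr ht₀)
  have hπD : D.map π = 1 := by
    change VariableChange.mapHom π (C * (C₁.map φ)⁻¹) = 1
    rw [map_mul, map_inv, mul_inv_eq_one]
    exact hπ
  set u : S := (D.u : S) with hudef
  have hDu : u - 1 ∈ maximalIdeal S := (residue_eq_zero_iff _).mp (by
    rw [map_sub, map_one, sub_eq_zero]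
    exact congrArg (fun x : VariableChange _ => (x.u : ResidueField S)) hπD)
  have hDr : D.r ∈ maximalIdeal S := (residue_eq_zero_iff _).mp
    (congrArg VariableChange.r hπD)
  have hDs : D.s ∈ maximalIdeal S := (residue_eq_zero_iff _).mp
    (congrArg VariableChange.s hπD)
  have hDt : D.t ∈ maximalIdeal S := (residue_eq_zero_iff _).mp
    (congrArg VariableChange.t hπD)
  let I : Ideal S := Ideal.span {u - 1, D.r, D.s, D.t}
  have hIM : I ≤ maximalIdeal S := Ideal.span_le.mpr (by
    simp only [Set.insert_subset_iff, Set.singleton_subset_iff]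
    exact ⟨hDu, hDr, hDs, hDt⟩)
  let N : Ideal S := (maximalIdeal R).map φ
  let J : Ideal S := N ⊔ maximalIdeal S * I
  let q := Ideal.Quotient.mk J
  have hψ : ∀ a, q (φ a) = algebraMap R (S ⧸ J) a := fun a => rfl
  have mI : u - 1 ∈ I ∧ D.r ∈ I ∧ D.s ∈ I ∧ D.t ∈ I := by
    refine ⟨?_, ?_, ?_, ?_⟩ <;> exact Ideal.subset_span (by simp)
  have hzero : ∀ {m x : S}, m ∈ maximalIdeal S → x ∈ I → q m * q x = 0 := fun hm hx => by
    rw [← map_mul]
    exact Ideal.Quotient.eq_zero_iff_mem.mpr (Ideal.mem_sup_right (Ideal.mul_mem_mul hm hx))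
  have ha₁ : u * φ W₂.a₁ = φ V.a₁ + 2 * D.s := by
    have := congrArg WeierstrassCurve.a₁ hD
    simp only [WeierstrassCurve.variableChange_a₁, WeierstrassCurve.map_a₁] at this
    rw [← this, ← mul_assoc, Units.mul_inv, one_mul]
  have ha₂ : u ^ 2 * φ W₂.a₂ = φ V.a₂ - D.s * φ V.a₁ + 3 * D.r - D.s ^ 2 := by
    have := congrArg WeierstrassCurve.a₂ hD
    simp only [WeierstrassCurve.variableChange_a₂, WeierstrassCurve.map_a₁,
      WeierstrassCurve.map_a₂] at this
    rw [← this, ← mul_assoc, ← mul_pow, Units.mul_inv, one_pow, one_mul]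
  have ha₃ : u ^ 3 * φ W₂.a₃ = φ V.a₃ + D.r * φ V.a₁ + 2 * D.t := by
    have := congrArg WeierstrassCurve.a₃ hD
    simp only [WeierstrassCurve.variableChange_a₃, WeierstrassCurve.map_a₁,
      WeierstrassCurve.map_a₃] at this
    rw [← this, ← mul_assoc, ← mul_pow, Units.mul_inv, one_pow, one_mul]
  have ha₄ : u ^ 4 * φ W₂.a₄ = φ V.a₄ - D.s * φ V.a₃ + 2 * D.r * φ V.a₂
      - (D.t + D.r * D.s) * φ V.a₁ + 3 * D.r ^ 2 - 2 * D.s * D.t := by
    have := congrArg WeierstrassCurve.a₄ hD
    simp only [WeierstrassCurve.variableChange_a₄, WeierstrassCurve.map_a₁,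
      WeierstrassCurve.map_a₂, WeierstrassCurve.map_a₃, WeierstrassCurve.map_a₄] at this
    rw [← this, ← mul_assoc, ← mul_pow, Units.mul_inv, one_pow, one_mul]
  have ha₆ : u ^ 6 * φ W₂.a₆ = φ V.a₆ + D.r * φ V.a₄ + D.r ^ 2 * φ V.a₂ + D.r ^ 3
      - D.t * φ V.a₃ - D.t ^ 2 - D.r * D.t * φ V.a₁ := by
    have := congrArg WeierstrassCurve.a₆ hD
    simp only [WeierstrassCurve.variableChange_a₆, WeierstrassCurve.map_a₁,
      WeierstrassCurve.map_a₂, WeierstrassCurve.map_a₃, WeierstrassCurve.map_a₄,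
      WeierstrassCurve.map_a₆] at this
    rw [← this, ← mul_assoc, ← mul_pow, Units.mul_inv, one_pow, one_mul]
  have hred : ∀ {a b : R}, π (φ a) = π (φ b) → q (φ a) = q (φ b) := fun {a b} h => by
    rw [← sub_eq_zero, ← map_sub, ← map_sub]
    refine Ideal.Quotient.eq_zero_iff_mem.mpr (Ideal.mem_sup_left (Ideal.mem_map_of_mem _ ?_))
    intro hab
    refine (residue_eq_zero_iff _).mp ?_ (hab.map φ)
    rw [map_sub, map_sub]; exact sub_eq_zero.mpr h
  have hVW : (V.map φ).map π = (W₂.map φ).map π := by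
    rw [← hD]
    simp only [← WeierstrassCurve.map_variableChange]
    rw [hπD, one_smul]
  have k₁ := hred (congrArg WeierstrassCurve.a₁ hVW)
  have k₂ := hred (congrArg WeierstrassCurve.a₂ hVW)
  have k₃ := hred (congrArg WeierstrassCurve.a₃ hVW)
  have k₄ := hred (congrArg WeierstrassCurve.a₄ hVW)
  have k₆ := hred (congrArg WeierstrassCurve.a₆ hVW)
  have g₁ := congrArg q ha₁
  have g₂ := congrArg q ha₂
  have g₃ := congrArg q ha₃
  have g₄ := congrArg q ha₄
  have g₆ := congrArg q ha₆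
  simp only [map_add, map_sub, map_mul, map_pow, map_ofNat, ← k₁, ← k₂, ← k₃, ← k₄, ← k₆]
    at g₁ g₂ g₃ g₄ g₆
  have zuu := hzero hDu mI.1
  rw [map_sub, map_one] at zuu
  have zrr := hzero hDr mI.2.1
  have zss := hzero hDs mI.2.2.1
  have ztt := hzero hDt mI.2.2.2
  have zrs := hzero hDr mI.2.2.1
  have zrt := hzero hDr mI.2.2.2
  have zst := hzero hDs mI.2.2.2
  have hann : ∀ x ∈ I, ∀ a ∈ maximalIdeal R, algebraMap R (S ⧸ J) a * q x = 0 := fun x hx a ha =>
    by rw [← hψ]; exact hzero (hM ha) hx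
  obtain ⟨z₁, z₂, z₃, z₄⟩ := infinitesimal_eq_zero (Q := S ⧸ J) V (q (u - 1)) (q D.r) (q D.s) (q D.t)
    (hann _ mI.1) (hann _ mI.2.1) (hann _ mI.2.2.1) (hann _ mI.2.2.2)
    (by rw [← hψ, map_sub, map_one]; linear_combination g₁)
    (by rw [← hψ, ← hψ, map_sub, map_one]
        linear_combination g₂ - q (φ V.a₂) * zuu - zss)
    (by rw [← hψ, ← hψ, map_sub, map_one]
        linear_combination g₃ - q (φ V.a₃) * (q u + 2) * zuu)
    (by rw [← hψ, ← hψ, ← hψ, ← hψ, map_sub, map_one]
        linear_combination g₄ - q (φ V.a₄) * (q u ^ 2 + 2 * q u + 3) * zuu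
          - q (φ V.a₁) * zrs + 3 * zrr - 2 * zst)
    (by rw [← hψ, ← hψ, ← hψ, map_sub, map_one]
        linear_combination g₆ - q (φ V.a₆) * (q u ^ 4 + 2 * q u ^ 3 + 3 * q u ^ 2 + 4 * q u + 5) * zuu
          + q (φ V.a₂) * zrr + q D.r * zrr - ztt - q (φ V.a₁) * zrt)
  have hIJ : I ≤ J := Ideal.span_le.mpr (by
    simp only [Set.insert_subset_iff, Set.singleton_subset_iff, SetLike.mem_coe]
    exact ⟨Ideal.Quotient.eq_zero_iff_mem.mp z₁, Ideal.Quotient.eq_zero_iff_mem.mp z₂,
      Ideal.Quotient.eq_zero_iff_mem.mp z₃, Ideal.Quotient.eq_zero_iff_mem.mp z₄⟩)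
  have hIN : I ≤ N := Submodule.le_of_le_smul_of_le_jacobson_bot
    (Submodule.fg_span (Set.toFinite _))
    (maximalIdeal_le_jacobson ⊥) hIJ
  have hmem : ∀ x : S, (∃ a, x - φ a ∈ I) → ∃ a, x - φ a ∈ N :=
    fun x ⟨a, ha⟩ => ⟨a, hIN ha⟩
  have hgenI : ∀ x : S, ∃ a, x - φ a ∈ I := by
    have hC' : C = D * C₁.map φ := (inv_mul_cancel_right _ _).symm
    have cu : (C.u : S) - φ u₀ ∈ I := by
      rw [hC']
      change u * φ u₀ - φ u₀ ∈ I
      rw [← sub_one_mul]
      exact I.mul_mem_right _ mI.1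
    intro x
    have hx : x ∈ Algebra.adjoin R ({(C.u : S), (↑C.u⁻¹ : S), C.r, C.s, C.t} : Set S) :=
      hgen ▸ Algebra.mem_top
    induction hx using Algebra.adjoin_induction with
    | mem x hx =>
      simp only [Set.mem_insert_iff, Set.mem_singleton_iff] at hx
      rcases hx with rfl | rfl | rfl | rfl | rfl
      · exact ⟨u₀, cu⟩
      · refine ⟨↑hu.unit⁻¹, ?_⟩
        have h1 : (↑C.u⁻¹ : S) * C.u = 1 := C.u.inv_mul
        have h2 : φ ↑hu.unit⁻¹ * φ u₀ = 1 := by rw [← map_mul, IsUnit.val_inv_mul, map_one]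
        rw [show (↑C.u⁻¹ : S) - φ ↑hu.unit⁻¹
            = -((↑C.u⁻¹ : S) * φ ↑hu.unit⁻¹) * ((C.u : S) - φ u₀) by
              linear_combination (φ ↑hu.unit⁻¹) * h1 - (↑C.u⁻¹ : S) * h2]
        exact I.mul_mem_left _ cu
      · refine ⟨r₀, ?_⟩
        rw [hC']
        change D.r * φ u₀ ^ 2 + φ r₀ - φ r₀ ∈ I
        rw [add_sub_cancel_right]
        exact I.mul_mem_right _ mI.2.1
      · refine ⟨s₀, ?_⟩
        rw [hC']
        change φ u₀ * D.s + φ s₀ - φ s₀ ∈ I
        rw [add_sub_cancel_right]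
        exact I.mul_mem_left _ mI.2.2.1
      · refine ⟨t₀, ?_⟩
        rw [hC']
        change D.t * φ u₀ ^ 3 + D.r * φ s₀ * φ u₀ ^ 2 + φ t₀ - φ t₀ ∈ I
        rw [add_sub_cancel_right]
        exact add_mem (I.mul_mem_right _ mI.2.2.2)
          (I.mul_mem_right _ (I.mul_mem_right _ mI.2.1))
    | algebraMap a => exact ⟨a, by rw [sub_self]; exact zero_mem _⟩
    | add x y _ _ hx hy =>
      obtain ⟨⟨a, ha⟩, b, hb⟩ := hx, hy
      exact ⟨a + b, by rw [map_add, add_sub_add_comm]; exact add_mem ha hb⟩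
    | mul x y _ _ hx hy =>
      obtain ⟨⟨a, ha⟩, b, hb⟩ := hx, hy
      refine ⟨a * b, ?_⟩
      rw [map_mul, show x * y - φ a * φ b = (x - φ a) * y + φ a * (y - φ b) by ring]
      exact add_mem (I.mul_mem_right _ ha) (I.mul_mem_left _ hb)
  have hsurj : Function.Surjective φ := by
    have : (⊤ : Submodule R S) ≤ LinearMap.range (Algebra.linearMap R S) := by
      refine Submodule.le_of_le_smul_of_le_jacobson_bot (I := maximalIdeal R) Module.Finite.fg_top
        (maximalIdeal_le_jacobson ⊥) fun x _ => ?_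
      obtain ⟨a, ha⟩ := hgenI x
      rw [show x = φ a + (x - φ a) by ring]
      refine Submodule.add_mem_sup ⟨a, rfl⟩ ?_
      rw [Ideal.smul_top_eq_map]
      exact hIN ha
    exact fun x => this (Submodule.mem_top (x := x))
  let e : R ≃+* S := RingEquiv.ofBijective φ ⟨hinj, hsurj⟩
  refine ⟨C.map e.symm.toRingHom, ?_⟩
  apply WeierstrassCurve.map_injective hinj
  change ((C.map e.symm.toRingHom) • W₁).map φ = W₂.map φ
  rw [← hC, ← WeierstrassCurve.map_variableChange, VariableChange.map_map,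
    show φ.comp e.symm.toRingHom = RingHom.id S from RingHom.ext fun x => e.apply_symm_apply x,
    VariableChange.map_id]

end Descend

section Integral

variable {R K : Type u} [CommRing R] [CommRing K] [Algebra R K]

theorem isIntegral_of_quadratic {x b c : K} (hb : IsIntegral R b) (hc : IsIntegral R c)
    (h : x ^ 2 + b * x + c = 0) : IsIntegral R x := by
  refine isIntegral_trans (A := integralClosure R K) x
    ⟨Polynomial.X ^ 2 + (Polynomial.C ⟨b, hb⟩ * Polynomial.X + Polynomial.C ⟨c, hc⟩),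
      Polynomial.monic_X_pow_add (lt_of_le_of_lt Polynomial.degree_linear_le (by norm_num)), ?_⟩
  simp only [Polynomial.eval₂_add, Polynomial.eval₂_mul, Polynomial.eval₂_X_pow,
    Polynomial.eval₂_C, Polynomial.eval₂_X, Subalgebra.algebraMap_eq, Algebra.algebraMap_self,
    RingHom.id_comp, RingHom.coe_coe, Subalgebra.coe_val]
  linear_combination h

theorem isIntegral_of_quartic {x a b c d : K} (ha : IsIntegral R a) (hb : IsIntegral R b)
    (hc : IsIntegral R c) (hd : IsIntegral R d)
    (h : x ^ 4 + a * x ^ 3 + b * x ^ 2 + c * x + d = 0) : IsIntegral R x := by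
  refine isIntegral_trans (A := integralClosure R K) x
    ⟨Polynomial.X ^ 4 + (Polynomial.C ⟨a, ha⟩ * Polynomial.X ^ 3
      + Polynomial.C ⟨b, hb⟩ * Polynomial.X ^ 2 + Polynomial.C ⟨c, hc⟩ * Polynomial.X
      + Polynomial.C ⟨d, hd⟩), Polynomial.monic_X_pow_add ?_, ?_⟩
  · refine lt_of_le_of_lt (b := ((3 : ℕ) : WithBot ℕ)) ?_ (WithBot.coe_lt_coe.mpr (by norm_num))
    compute_degree!
  simp only [Polynomial.eval₂_add, Polynomial.eval₂_mul, Polynomial.eval₂_X_pow,
    Polynomial.eval₂_C, Polynomial.eval₂_X, Subalgebra.algebraMap_eq, Algebra.algebraMap_self,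
    RingHom.id_comp, RingHom.coe_coe, Subalgebra.coe_val]
  linear_combination h

end Integral

/-- Elliptic curves with the same `j`-invariant over a complete local domain with algebraically
closed residue field differ by a change of variables over the domain. -/
theorem exists_variableChange_of_j_eq {R : Type u} [CommRing R] [IsDomain R] [IsLocalRing R]
    [IsAdicComplete (maximalIdeal R) R] [IsAlgClosed (ResidueField R)]
    (W₁ W₂ : WeierstrassCurve R) [W₁.IsElliptic] [W₂.IsElliptic] (hj : W₁.j = W₂.j) :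
    ∃ C : VariableChange R, C • W₁ = W₂ := by
  have : HenselianLocalRing R := HenselianLocalRing.mk fun f hf a h1 h2 =>
    HenselianRing.is_henselian (R := R) (I := maximalIdeal R) f hf a h1 (h2.map _)
  let K := AlgebraicClosure (FractionRing R)
  set φ := algebraMap R K
  have hinj : Function.Injective φ := by
    change Function.Injective (algebraMap R K)
    rw [IsScalarTower.algebraMap_eq R (FractionRing R) K]
    exact (algebraMap (FractionRing R) K).injective.comp (IsFractionRing.injective R (FractionRing R))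
  obtain ⟨C, hC⟩ := WeierstrassCurve.exists_variableChange_of_j_eq (W₁.map φ) (W₂.map φ)
    (by rw [WeierstrassCurve.map_j, WeierstrassCurve.map_j, hj])
  have i0 : ∀ a, IsIntegral R (φ a) := fun _ => isIntegral_algebraMap
  have uu : (C.u : K) * (↑C.u⁻¹ : K) = 1 := C.u.mul_inv
  -- the scaling is integral with integral inverse
  obtain ⟨iu, iu'⟩ : IsIntegral R (C.u : K) ∧ IsIntegral R (↑C.u⁻¹ : K) := by
    have h := congrArg WeierstrassCurve.Δ hC
    rw [WeierstrassCurve.variableChange_Δ, WeierstrassCurve.map_Δ, WeierstrassCurve.map_Δ] at h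
    refine ⟨IsIntegral.of_pow (n := 12) (by norm_num) ?_,
      IsIntegral.of_pow (n := 12) (by norm_num) ?_⟩
    · have : (C.u : K) ^ 12 = φ (W₁.Δ * ↑W₂.isUnit_Δ.unit⁻¹) := by
        have h' := congrArg φ W₂.isUnit_Δ.mul_val_inv
        rw [map_mul, map_one, ← h] at h'
        rw [map_mul]
        linear_combination (-(C.u : K) ^ 12) * h'
          + (φ W₁.Δ * φ ↑W₂.isUnit_Δ.unit⁻¹) * congrArg (· ^ 12) uu
      rw [this]; exact i0 _
    · have : (↑C.u⁻¹ : K) ^ 12 = φ (W₂.Δ * ↑W₁.isUnit_Δ.unit⁻¹) := by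
        have h' := congrArg φ W₁.isUnit_Δ.mul_val_inv
        rw [map_mul, map_one] at h'
        rw [map_mul, ← h]
        linear_combination (-(↑C.u⁻¹ : K) ^ 12) * h'
      rw [this]; exact i0 _
  have ir : IsIntegral R C.r := by
    by_cases h2 : IsUnit (2 : R)
    · have h := congrArg WeierstrassCurve.b₆ hC
      rw [WeierstrassCurve.variableChange_b₆, WeierstrassCurve.map_b₆, WeierstrassCurve.map_b₆,
        WeierstrassCurve.map_b₂, WeierstrassCurve.map_b₄] at h
      obtain ⟨w, hw⟩ : ∃ w : R, 4 * w = 1 := by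
        obtain ⟨e, he⟩ := h2.exists_right_inv
        exact ⟨e * e, by linear_combination (2 * e + 1) * he⟩
      have hw' : 4 * φ w = 1 := by simpa [map_ofNat] using congrArg φ hw
      refine isIntegral_of_quartic (R := R) (a := φ w * φ W₁.b₂) (b := 2 * φ w * φ W₁.b₄)
        (c := φ w * (φ W₁.b₆ - (C.u : K) ^ 6 * φ W₂.b₆)) (d := 0) ((i0 _).mul (i0 _))
        (((isIntegral_algebraMap (x := (2 : R))).mul (i0 _)).mul (i0 _) |> fun z => by
          simpa [map_ofNat] using z)
        ((i0 _).mul ((i0 _).sub ((iu.pow 6).mul (i0 _)))) isIntegral_zero ?_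
      have hu6 : (C.u : K) ^ 6 * (↑C.u⁻¹ : K) ^ 6 = 1 := by rw [← mul_pow, uu, one_pow]
      linear_combination (C.r * φ w * (C.u : K) ^ 6) * h - (C.r * φ w *
          (φ W₁.b₆ + 2 * C.r * φ W₁.b₄ + C.r ^ 2 * φ W₁.b₂ + 4 * C.r ^ 3)) * hu6
        - C.r ^ 4 * hw'
    · have h3 : IsUnit (3 : R) := by
        rcases IsLocalRing.isUnit_or_isUnit_of_isUnit_add (a := (3 : R)) (b := -2)
          (by norm_num) with h | h
        · exact h
        · exact absurd (by simpa using h.neg) h2
      have h := congrArg WeierstrassCurve.b₈ hC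
      rw [WeierstrassCurve.variableChange_b₈, WeierstrassCurve.map_b₈, WeierstrassCurve.map_b₈,
        WeierstrassCurve.map_b₂, WeierstrassCurve.map_b₄, WeierstrassCurve.map_b₆] at h
      obtain ⟨w, hw⟩ := h3.exists_right_inv
      have hw' : 3 * φ w = 1 := by simpa [map_ofNat] using congrArg φ hw
      refine isIntegral_of_quartic (R := R) (a := φ w * φ W₁.b₂) (b := φ W₁.b₄)
        (c := φ W₁.b₆) (d := φ w * (φ W₁.b₈ - (C.u : K) ^ 8 * φ W₂.b₈))
        ((i0 _).mul (i0 _)) (i0 _) (i0 _)
        ((i0 _).mul ((i0 _).sub ((iu.pow 8).mul (i0 _)))) ?_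
      have hu8 : (C.u : K) ^ 8 * (↑C.u⁻¹ : K) ^ 8 = 1 := by rw [← mul_pow, uu, one_pow]
      linear_combination (φ w * (C.u : K) ^ 8) * h - (φ w * (φ W₁.b₈ + 3 * C.r * φ W₁.b₆
          + 3 * C.r ^ 2 * φ W₁.b₄ + C.r ^ 3 * φ W₁.b₂ + 3 * C.r ^ 4)) * hu8
        - (C.r ^ 4 + C.r ^ 2 * φ W₁.b₄ + C.r * φ W₁.b₆) * hw'
  have is_ : IsIntegral R C.s := by
    have h := congrArg WeierstrassCurve.a₂ hC
    simp only [WeierstrassCurve.variableChange_a₂, WeierstrassCurve.map_a₁,
      WeierstrassCurve.map_a₂] at h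
    refine isIntegral_of_quadratic (R := R) (b := φ W₁.a₁)
      (c := (C.u : K) ^ 2 * φ W₂.a₂ - φ W₁.a₂ - φ 3 * C.r) (i0 _)
      ((((iu.pow 2).mul (i0 _)).sub (i0 _)).sub ((i0 _).mul ir)) ?_
    have hu2 : (C.u : K) ^ 2 * (↑C.u⁻¹ : K) ^ 2 = 1 := by rw [← mul_pow, uu, one_pow]
    rw [map_ofNat]
    linear_combination (-(C.u : K) ^ 2) * h
      + (φ W₁.a₂ - C.s * φ W₁.a₁ + 3 * C.r - C.s ^ 2) * hu2
  have it : IsIntegral R C.t := by
    have h := congrArg WeierstrassCurve.a₆ hC
    simp only [WeierstrassCurve.variableChange_a₆, WeierstrassCurve.map_a₁,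
      WeierstrassCurve.map_a₂, WeierstrassCurve.map_a₃, WeierstrassCurve.map_a₄,
      WeierstrassCurve.map_a₆] at h
    refine isIntegral_of_quadratic (R := R) (b := φ W₁.a₃ + C.r * φ W₁.a₁)
      (c := (C.u : K) ^ 6 * φ W₂.a₆
        - (φ W₁.a₆ + C.r * φ W₁.a₄ + C.r ^ 2 * φ W₁.a₂ + C.r ^ 3))
      ((i0 _).add (ir.mul (i0 _)))
      (((iu.pow 6).mul (i0 _)).sub ((((i0 _).add (ir.mul (i0 _))).add
        ((ir.pow 2).mul (i0 _))).add (ir.pow 3))) ?_
    have hu6 : (C.u : K) ^ 6 * (↑C.u⁻¹ : K) ^ 6 = 1 := by rw [← mul_pow, uu, one_pow]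
    linear_combination (-(C.u : K) ^ 6) * h
      + (φ W₁.a₆ + C.r * φ W₁.a₄ + C.r ^ 2 * φ W₁.a₂ + C.r ^ 3 - C.t * φ W₁.a₃ - C.t ^ 2
        - C.r * C.t * φ W₁.a₁) * hu6
  let T : Set K := {(C.u : K), (↑C.u⁻¹ : K), C.r, C.s, C.t}
  let A := Algebra.adjoin R T
  have : Module.Finite R A := ⟨(Submodule.fg_top _).mpr
    (fg_adjoin_of_finite (Set.toFinite T) (by
      intro x hx
      simp only [T, Set.mem_insert_iff, Set.mem_singleton_iff] at hx
      rcases hx with rfl | rfl | rfl | rfl | rfl <;> assumption))⟩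
  have mT : (C.u : K) ∈ A ∧ (↑C.u⁻¹ : K) ∈ A ∧ C.r ∈ A ∧ C.s ∈ A ∧ C.t ∈ A := by
    refine ⟨?_, ?_, ?_, ?_, ?_⟩ <;> exact Algebra.subset_adjoin (by simp [T])
  let CA : VariableChange A := ⟨⟨⟨_, mT.1⟩, ⟨_, mT.2.1⟩, Subtype.ext C.u.mul_inv,
    Subtype.ext C.u.inv_mul⟩, ⟨_, mT.2.2.1⟩, ⟨_, mT.2.2.2.1⟩, ⟨_, mT.2.2.2.2⟩⟩
  have hCA : CA.map A.val.toRingHom = C := by ext <;> rfl
  refine exists_variableChange_of_map W₁ W₂ (S := A) (fun x y h => hinj (congrArg Subtype.val h))
    CA ?_ ?_
  · apply Subalgebra.map_injective (f := A.val) Subtype.val_injective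
    rw [Algebra.map_top, Subalgebra.range_val, AlgHom.map_adjoin]
    congr 1
    simp only [Set.image_insert_eq, Set.image_singleton]
    rfl
  · apply WeierstrassCurve.map_injective (f := A.val.toRingHom) Subtype.val_injective
    change (CA • W₁.map (algebraMap R A)).map A.val.toRingHom
      = (W₂.map (algebraMap R A)).map A.val.toRingHom
    rw [← WeierstrassCurve.map_variableChange, hCA, WeierstrassCurve.map_map,
      WeierstrassCurve.map_map, AlgHom.toRingHom_eq_coe, AlgHom.comp_algebraMap]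
    exact hC

end Groth.Agent.EllLiftX
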